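import Cfsg.Agent.H399.Two.ThEig
import Cfsg.Agent.H651.Two.Row
import Cfsg.Agent.H227.IMThA
import Cfsg.Agent.H444.ThLoc
import Cfsg.Agent.S2083

/-!
# The Thompson group: two characters of degree divisible by `p` (helper399)

Characters of degrees `61256 = 2^3 * 13 * 19 * 31`, `30875 = 5^3 * 13 * 19`, `4881384 = 2^3 * 3^9 * 31`,
`51684750 = 2 * 3^3 * 5^3 * 13 * 19 * 31`; for `p = 7` the centralizer of an element of order 7.
-/

set_option autoImplicit false

namespace Cfsg.Agent.H399.Two.Th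

open Cfsg Subgroup
open Cfsg.Agent.Th.Base Cfsg.Agent.Th.Word Cfsg.Agent.Th.KOracle Cfsg.Agent.Th.COracleDef
  Cfsg.Agent.Th.IndexUpper Cfsg.Agent.Th.FlagCover Cfsg.Agent.Th.IndexBound
open Cfsg.Agent.H399.Two.ThData Cfsg.Agent.H399.Two.ThEig
open Cfsg.Agent.H651.Two Cfsg.Agent.H596.OneFacts

universe u

theorem card_th : Nat.card Cfsg.Spor.Th = 90745943887872000 := Cfsg.Agent.Th.Main1700.final.2.1

instance finite_th : Finite Cfsg.Spor.Th := Cfsg.Agent.Th.Main1700.final.1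

/-- an irreducible character from an eigenvector -/
theorem main (v : Fin 11 → ℚ) (μ : ℚ) (hv0 : v 0 = 1) (hv : ∀ i, ∑ j, (A i j : ℚ) * v j = μ * v i)
    (hu : ∀ x : Fin 11 → ℂ, (∀ i, ∑ j, (A i j : ℂ) * x j = (μ : ℂ) * x i) → ∀ i, x i = x 0 * v i)
    (n : ℕ) (hn : (∑ i, ((∑ j, Ft i j : ℕ) : ℚ) * v i ^ 2 : ℚ) = 143127000 / n) (hn0 : n ≠ 0) :
    ∃ χ : IrrCharacter Cfsg.Spor.Th, charDegree (χ : Cfsg.Spor.Th → ℂ) = n := by
  obtain ⟨g, hcx⟩ := Cfsg.Agent.Th.Main475.exists_cx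
  obtain ⟨-, -, -, hind⟩ := Cfsg.Agent.Th.Main1700.final
  have D := data hcx hind
  have hF : (fun (i : Fin 11) (j : Fin 13) => Fn i (j + 11)) = Ft := by
    funext i j
    exact Fn_eq i j
  rw [hF] at D
  obtain ⟨χ, hχ⟩ := D.exists_irr A (d := 98280) (by norm_num)
    (fun i => by
      rw [row_sum]
      revert i
      decide)
    (fun j => by
      rw [col_sum]
      revert j
      decide) A_eq
    (D.inv_of_inj fun i j hij => bN_inj i j (by rwa [row_sum, row_sum] at hij)) 0 hcx.N.g0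
    (lab_eq hcx hind ⟨1, Subgroup.one_mem _, by
      rw [mul_one]
      show pt _ 1 = pt _ (g 0)
      rw [hcx.N.g0]⟩) v μ hv0 hv hu
  refine ⟨χ, Cfsg.Agent.H670.PSing.charDegree_eq_of ?_⟩
  rw [hn, hind] at hχ
  have hn' : (n : ℂ) ≠ 0 := by exact_mod_cast hn0
  push_cast at hχ
  field_simp at hχ
  exact hχ

theorem deg_a : ∃ χ : IrrCharacter Cfsg.Spor.Th, charDegree (χ : Cfsg.Spor.Th → ℂ) = 61256 :=
  main va 7560 rfl eiga ua 61256 (by rw [norma]; norm_num) (by norm_num)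

theorem deg_b : ∃ χ : IrrCharacter Cfsg.Spor.Th, charDegree (χ : Cfsg.Spor.Th → ℂ) = 30875 :=
  main vb 4536 rfl eigb ub 30875 (by rw [normb]; norm_num) (by norm_num)

theorem deg_c : ∃ χ : IrrCharacter Cfsg.Spor.Th, charDegree (χ : Cfsg.Spor.Th → ℂ) = 4881384 :=
  main vc 2520 rfl eigc uc 4881384 (by rw [normc]; norm_num) (by norm_num)

theorem deg_d : ∃ χ : IrrCharacter Cfsg.Spor.Th, charDegree (χ : Cfsg.Spor.Th → ℂ) = 51684750 :=
  main vd 504 rfl eigd ud 51684750 (by rw [normd]; norm_num) (by norm_num)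

/-! ### `p = 7` -/

open Cfsg.Agent.H33 Cfsg.Agent.H227.IMTh Cfsg.Agent.H723.Spor.Th in
theorem two_seven : Two 7 Cfsg.Spor.Th := by
  have : Fact (Nat.Prime 7) := ⟨by norm_num⟩
  have h := setup Cfsg.Agent.KFacts.Th.Main.ctx hone
  set s := Cfsg.Agent.Th.IndexUpper.gTh 6 with hs
  have h7 : orderOf s = 7 := h.s7
  have h168 : Nat.card (Subgroup.centralizer ({s} : Set Spor.Th)) = 7 * 168 :=
    Cfsg.Agent.H444.ThLoc.card_seven h7
  refine two_of_lt ?_
  rw [Cfsg.Agent.S2083.result]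
  have h3 : 3 ≤ ND 7 Cfsg.Spor.Th := three_le_of_cent h7 (by norm_num)
    (IM.of_surjective (Cfsg.Agent.ThType.CentSeven.Setup.pr s)
      (Cfsg.Agent.ThType.CentSeven.Setup.pr_surj s) (im_of_168 (h.card_Y h168) fun u hu => by
        exact h.hyp.card_cent u (by rw [← pow_two, ← hu, pow_orderOf_eq_one]) (by
          rintro rfl
          rw [orderOf_one] at hu
          omega)))
    (by rw [h168]; norm_num) (by rw [Cfsg.Agent.H399.Two.Th.card_th]; norm_num)
  omega

theorem two {p : ℕ} (hp : p.Prime) (hd : p ∣ Nat.card Cfsg.Spor.Th) : Two p Cfsg.Spor.Th := by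
  rw [card_th] at hd
  have h0 := prime_mem hp (L := [(2, 15), (3, 10), (5, 3), (7, 2), (13, 1), (19, 1), (31, 1)]) (by norm_num)
    (N := 90745943887872000) (by decide +kernel) hd
  simp only [List.map_cons, List.map_nil, List.mem_cons, List.not_mem_nil, or_false] at h0
  rcases h0 with rfl | rfl | rfl | rfl | rfl | rfl | rfl
  · exact two_of_degs deg_a deg_c (by norm_num) (by norm_num) (by norm_num)
  · exact two_of_degs deg_c deg_d (by norm_num) (by norm_num) (by norm_num)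
  · exact two_of_degs deg_b deg_d (by norm_num) (by norm_num) (by norm_num)
  · exact two_seven
  · exact two_of_degs deg_a deg_b (by norm_num) (by norm_num) (by norm_num)
  · exact two_of_degs deg_a deg_b (by norm_num) (by norm_num) (by norm_num)
  · exact two_of_degs deg_a deg_c (by norm_num) (by norm_num) (by norm_num)

/-- **The row `Th`.** -/
theorem two_th {S : Type u} [Group S] (h : Cfsg.Spor.IsoTh S) {p : ℕ} [hp : Fact p.Prime]
    (hd : p ∣ Nat.card S) : TwoOr p S :=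
  twoOr_of h hd (two hp.out)

end Cfsg.Agent.H399.Two.Th
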