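import Cfsg.Agent.H651.Two.Row
import Cfsg.Agent.H492.IMHN
import Cfsg.Agent.H845.HNMult

/-!
# The Harada-Norton group: two characters of degree divisible by `p` (helper399)

The irreducible characters of degrees `8910 = 2 * 3 ^ 4 * 5 * 11`, `365750 = 2 * 5 ^ 3 * 7 * 11 * 19`,
`16929 = 3 ^ 4 * 11 * 19` (constituents of the permutation character of degree 1539000) and
`133 = 7 * 19`.
-/

set_option autoImplicit false

namespace Cfsg.Agent.H399.Two.HN

open Cfsg Cfsg.Agent.H492.IMHN Cfsg.Agent.H651.Two Cfsg.Agent.H596.OneFacts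
open Cfsg.Agent.HN.Index

universe u

/-- the eigenvector for the eigenvalue `128` -/
def vC : Fin 9 → ℚ := ![1, 1/11, 1/11, 0, 1/77, -1/154, 0, 5/77, 0]

theorem uC (x : Fin 9 → ℂ) (h : ∀ i, ∑ j, (kk i j : ℂ) * x j = ((128 : ℚ) : ℂ) * x i) (i : Fin 9) :
    x i = x 0 * ((vC i : ℚ) : ℂ) := by
  have e := rows x 128 (by push_cast at h ⊢; exact h)
  obtain ⟨h0, h1, h2, h3, h4, h5, h6, h7, h8⟩ := e
  unfold vC
  fin_cases i
  · show x 0 = x 0 * (((1 : ℚ)) : ℂ)
    simp
  · show x 1 = x 0 * (((1/11 : ℚ)) : ℂ)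
    push_cast
    linear_combination (1/1408) * h0
  · show x 2 = x 0 * (((1/11 : ℚ)) : ℂ)
    push_cast
    linear_combination (2669/3696000) * h0 + (4/2625) * h1 + (-67/6720) * h2 + (-11/420) * h3 + (-1/40) * h4 + (-3/500) * h5 + (21/320) * h8
  · show x 3 = x 0 * (((0 : ℚ)) : ℂ)
    push_cast
    linear_combination (173/16800000) * h0 + (173/131250) * h1 + (71/168000) * h2 + (13/4200) * h3 + (-3/2000) * h4 + (33/3125) * h5 + (-21/1600) * h8
  · show x 4 = x 0 * (((1/77 : ℚ)) : ℂ)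
    push_cast
    linear_combination (34061/323400000) * h0 + (227/459375) * h1 + (-17/1176000) * h2 + (-151/29400) * h3 + (-19/14000) * h4 + (-141/21875) * h5 + (21/1600) * h8
  · show x 5 = x 0 * (((-1/154 : ℚ)) : ℂ)
    push_cast
    linear_combination (-4997/103488000) * h0 + (23/73500) * h1 + (39/62720) * h2 + (1/294) * h3 + (1/210) * h4 + (-61/14000) * h5 + (-1/256) * h8
  · show x 6 = x 0 * (((0 : ℚ)) : ℂ)
    push_cast
    linear_combination (-1/480000) * h0 + (-1/3750) * h1 + (-1/2400) * h2 + (-1/300) * h4 + (3/625) * h5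
  · show x 7 = x 0 * (((5/77 : ℚ)) : ℂ)
    push_cast
    linear_combination (79801/161700000) * h0 + (-811/459375) * h1 + (-437/98000) * h2 + (-173/7350) * h3 + (-139/2625) * h4 + (-537/21875) * h5 + (1/10) * h6 + (3/400) * h8
  · show x 8 = x 0 * (((0 : ℚ)) : ℂ)
    push_cast
    linear_combination (-1/2400000) * h0 + (-1/18750) * h1 + (7/16000) * h2 + (-1/600) * h3 + (31/6000) * h4 + (-101/25000) * h5 + (3/3200) * h8

theorem eigC (i : Fin 9) : ∑ j, (kk i j : ℚ) * vC j = 128 * vC i := by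
  revert i; decide +kernel

theorem normC : (∑ i, (ss i : ℚ) * vC i ^ 2 : ℚ) = 1539000 / 16929 := by decide +kernel

/-- an irreducible character of degree 16929 -/
theorem exists_16929 : ∃ χ : IrrCharacter Cfsg.Spor.HN, (χ : Cfsg.Spor.HN → ℂ) 1 = (16929 : ℕ) := by
  obtain ⟨χ, hχ⟩ := main vC 128 rfl eigC uC
  refine ⟨χ, ?_⟩
  rw [normC] at hχ
  push_cast at hχ ⊢
  linear_combination (16929 / 1539000 : ℂ) * hχ

/-- an irreducible character of degree 133 -/
theorem exists_133 : ∃ χ : IrrCharacter Cfsg.Spor.HN, (χ : Cfsg.Spor.HN → ℂ) 1 = (133 : ℕ) := by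
  obtain ⟨ρ, hρ, -⟩ := Cfsg.Agent.H845.HNMult.exists_rep
  refine ⟨⟨ρ.character, 133, ρ, hρ, rfl⟩, ?_⟩
  show ρ.character 1 = _
  rw [Representation.char_one, Module.finrank_fin_fun]

theorem deg_of {n : ℕ} (h : ∃ χ : IrrCharacter Cfsg.Spor.HN, (χ : Cfsg.Spor.HN → ℂ) 1 = (n : ℕ)) :
    ∃ χ : IrrCharacter Cfsg.Spor.HN, charDegree (χ : Cfsg.Spor.HN → ℂ) = n := by
  obtain ⟨χ, hχ⟩ := h
  exact ⟨χ, Cfsg.Agent.H670.PSing.charDegree_eq_of hχ⟩

theorem two {p : ℕ} (hp : p.Prime) (hd : p ∣ Nat.card Cfsg.Spor.HN) : Two p Cfsg.Spor.HN := by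
  rw [card_hn] at hd
  have h0 := prime_mem hp (L := [(2, 14), (3, 6), (5, 6), (7, 1), (11, 1), (19, 1)]) (by norm_num)
    (N := 273030912000000) (by decide +kernel) hd
  simp only [List.map_cons, List.map_nil, List.mem_cons, List.not_mem_nil, or_false] at h0
  have a := deg_of exists_8910
  have b := deg_of exists_365750
  have c := deg_of exists_16929
  have d := deg_of exists_133
  rcases h0 with rfl | rfl | rfl | rfl | rfl | rfl
  · exact two_of_degs a b (by norm_num) (by norm_num) (by norm_num)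
  · exact two_of_degs a c (by norm_num) (by norm_num) (by norm_num)
  · exact two_of_degs a b (by norm_num) (by norm_num) (by norm_num)
  · exact two_of_degs d b (by norm_num) (by norm_num) (by norm_num)
  · exact two_of_degs a b (by norm_num) (by norm_num) (by norm_num)
  · exact two_of_degs d b (by norm_num) (by norm_num) (by norm_num)

/-- **The row `HN`.** -/
theorem two_hn {S : Type u} [Group S] (h : Cfsg.Spor.IsoHN S) {p : ℕ} [hp : Fact p.Prime]
    (hd : p ∣ Nat.card S) : TwoOr p S :=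
  twoOr_of h hd (two hp.out)

end Cfsg.Agent.H399.Two.HN
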