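import Cfsg.Agent.H492.IMSph

/-!
# Irreducible characters from two families of double cosets (helper399)

`H, C ≤ G`; the numbers `F i j` of `H`-cosets in `H w_i H ∩ H w'_j C` give the operator
`f ↦ ∑ f (g k c)` (`k ∈ H`, `c ∈ C`) on the `H`-biinvariant functions. A simple eigenvalue gives an
irreducible character of known degree.
-/

set_option autoImplicit false

namespace Cfsg.Agent.H399.Two.Bip

open Cfsg Cfsg.Agent.Characters.Core Cfsg.Agent.H492.IMSph

universe u

variable {G : Type u} [Group G]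

/-- A family of right translations with a simple eigenvalue on the biinvariant functions. -/
theorem exists_irr_of_op [Fintype G] (H : Subgroup G) {ι : Type*} [Fintype ι] (s : ι → G)
    {φ : G → ℂ} {μ κ : ℂ}
    (hl : ∀ h ∈ H, ∀ g, φ (h * g) = φ g) (hr : ∀ h ∈ H, ∀ g, φ (g * h) = φ g) (h1 : φ 1 = 1)
    (hT : ∀ g, ∑ i, φ (g * s i) = μ * φ g)
    (huniq : ∀ f : G → ℂ, (∀ h ∈ H, ∀ g, f (h * g) = f g) → (∀ h ∈ H, ∀ g, f (g * h) = f g) →
      (∀ g, ∑ i, f (g * s i) = μ * f g) → ∀ g, f g = f 1 * φ g)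
    (hκ : ∑ z, φ z * φ z⁻¹ = κ) (hκ0 : κ ≠ 0) :
    ∃ χ : IrrCharacter G, (χ : G → ℂ) 1 * κ = Nat.card G := by
  refine exists_irr_of_spherical h1 hκ hκ0 fun y u => ?_
  have h := huniq (fun u => ∑ g, φ g * φ (y⁻¹ * g⁻¹ * u)) ?_ ?_ ?_ u
  · simp only [mul_one] at h
    exact h
  · intro h hh g
    show ∑ x, φ x * φ (y⁻¹ * x⁻¹ * (h * g)) = ∑ x, φ x * φ (y⁻¹ * x⁻¹ * g)
    rw [← Equiv.sum_comp (Equiv.mulLeft h)]
    refine Finset.sum_congr rfl fun x _ => ?_
    simp only [Equiv.coe_mulLeft]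
    rw [hl h hh]
    congr 2
    group
  · intro h hh g
    show ∑ x, φ x * φ (y⁻¹ * x⁻¹ * (g * h)) = ∑ x, φ x * φ (y⁻¹ * x⁻¹ * g)
    refine Finset.sum_congr rfl fun x _ => ?_
    rw [← mul_assoc (y⁻¹ * x⁻¹), hr h hh]
  · intro g
    show ∑ i, ∑ x, φ x * φ (y⁻¹ * x⁻¹ * (g * s i)) = μ * ∑ x, φ x * φ (y⁻¹ * x⁻¹ * g)
    rw [Finset.sum_comm, Finset.mul_sum]
    refine Finset.sum_congr rfl fun x _ => ?_
    have e : ∀ i, φ x * φ (y⁻¹ * x⁻¹ * (g * s i)) = φ x * φ (y⁻¹ * x⁻¹ * g * s i) := by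
      intro i
      rw [mul_assoc (y⁻¹ * x⁻¹)]
    rw [Finset.sum_congr rfl fun i _ => e i, ← Finset.mul_sum, hT]
    ring

/-- The data: labels of the double cosets `H \ G / H` and `H \ G / C`, numbers of cosets. -/
structure Data (H C : Subgroup G) {m n : ℕ} (lab : G → Fin m) (labc : G → Fin n) (w : Fin m → G)
    (F : Fin m → Fin n → ℕ) : Prop where
  ll : ∀ h ∈ H, ∀ g, lab (h * g) = lab g
  lr : ∀ h ∈ H, ∀ g, lab (g * h) = lab g
  cl : ∀ h ∈ H, ∀ g, labc (h * g) = labc g
  cr : ∀ c ∈ C, ∀ g, labc (g * c) = labc g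
  rep : ∀ g, ∃ a ∈ H, ∃ b ∈ H, g = a * w (lab g) * b
  tr : ∀ g g', labc g = labc g' → ∃ a ∈ H, ∃ c ∈ C, g' = a * g * c
  cnt : ∀ i j, Nat.card {x : G // lab x = i ∧ labc x = j} = Nat.card H * F i j

section

variable {H C : Subgroup G} {m n : ℕ} {lab : G → Fin m} {labc : G → Fin n} {w : Fin m → G}
  {F : Fin m → Fin n → ℕ} (D : Data H C lab labc w F)

include D

theorem Data.apply {f : G → ℂ} (hl : ∀ h ∈ H, ∀ g, f (h * g) = f g)
    (hr : ∀ h ∈ H, ∀ g, f (g * h) = f g) (g : G) : f g = f (w (lab g)) := by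
  obtain ⟨a, ha, b, hb, e⟩ := D.rep g
  nth_rewrite 1 [e]
  rw [hr b hb, hl a ha]

theorem Data.card_filter [Fintype G] (i : Fin m) (j : Fin n) :
    ((Finset.univ.filter fun x : G => lab x = i ∧ labc x = j).card : ℂ) = Nat.card H * F i j := by
  have h := D.cnt i j
  rw [Nat.card_eq_fintype_card, Fintype.card_subtype] at h
  rw [h]
  push_cast
  ring

/-- a sum over the elements with given labels -/
theorem Data.sum_labels [Fintype G] (u : Fin m → Fin n → ℂ) :
    ∑ x : G, u (lab x) (labc x) = Nat.card H * ∑ i, ∑ j, F i j * u i j := by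
  classical
  rw [← Finset.sum_fiberwise (s := Finset.univ) (g := fun x : G => lab x), Finset.mul_sum]
  refine Finset.sum_congr rfl fun i _ => ?_
  rw [← Finset.sum_fiberwise (s := Finset.univ.filter fun x : G => lab x = i)
    (g := fun x : G => labc x), Finset.mul_sum]
  refine Finset.sum_congr rfl fun j _ => ?_
  rw [Finset.filter_filter, Finset.sum_congr rfl (g := fun _ => u i j), Finset.sum_const, nsmul_eq_mul,
    D.card_filter]
  · ring
  · intro x hx
    obtain ⟨h1, h2⟩ := (Finset.mem_filter.1 hx).2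
    rw [h1, h2]

/-- **the sum over `C`** -/
theorem Data.sum_C [Fintype G] [Fintype C] {f : G → ℂ} (hl : ∀ h ∈ H, ∀ g, f (h * g) = f g)
    (hr : ∀ h ∈ H, ∀ g, f (g * h) = f g) (g : G) :
    (∑ i, (F i (labc g) : ℂ)) * ∑ c : C, f (g * c) =
      Nat.card C * ∑ i, (F i (labc g) : ℂ) * f (w i) := by
  classical
  set j := labc g with hj
  have hH : (Nat.card H : ℂ) ≠ 0 := by
    exact_mod_cast Nat.card_pos.ne'
  have h1 : ∀ x : G, labc x = j → ∑ c : C, f (x * c) = ∑ c : C, f (g * c) := by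
    intro x hx
    obtain ⟨a, ha, c, hc, e⟩ := D.tr g x (by rw [hx])
    rw [← Equiv.sum_comp (Equiv.mulLeft (⟨c, hc⟩ : C)) fun c' : C => f (g * c')]
    refine Finset.sum_congr rfl fun c' _ => ?_
    rw [e, mul_assoc, mul_assoc, hl a ha]
    rfl
  have h2 : ∑ x : G, (if labc x = j then ∑ c : C, f (x * c) else 0) =
      Nat.card C * ∑ x : G, (if labc x = j then f x else 0) := by
    have e1 : ∀ x : G, (if labc x = j then ∑ c : C, f (x * c) else 0) =
        ∑ c : C, (if labc x = j then f (x * c) else 0) := by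
      intro x
      split_ifs
      · rfl
      · simp
    rw [Finset.sum_congr rfl fun x _ => e1 x, Finset.sum_comm]
    have e2 : ∀ c : C, ∑ x : G, (if labc x = j then f (x * c) else 0) =
        ∑ x : G, (if labc x = j then f x else 0) := by
      intro c
      rw [← Equiv.sum_comp (Equiv.mulRight (c : G)) fun x : G => (if labc x = j then f x else 0)]
      refine Finset.sum_congr rfl fun x _ => ?_
      rw [Equiv.coe_mulRight, D.cr c c.2]
    rw [Finset.sum_congr rfl fun c _ => e2 c, Finset.sum_const, Finset.card_univ,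
      ← Nat.card_eq_fintype_card, nsmul_eq_mul]
  have h3 : ∑ x : G, (if labc x = j then ∑ c : C, f (x * c) else 0) =
      Nat.card H * ((∑ i, (F i j : ℂ)) * ∑ c : C, f (g * c)) := by
    have e1 : ∀ x : G, (if labc x = j then ∑ c : C, f (x * c) else 0) =
        (if labc x = j then ∑ c : C, f (g * c) else 0) := by
      intro x
      split_ifs with h
      · exact h1 x h
      · rfl
    rw [Finset.sum_congr rfl fun x _ => e1 x]
    rw [D.sum_labels fun _ j' => if j' = j then ∑ c : C, f (g * c) else 0]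
    congr 1
    rw [Finset.sum_mul]
    refine Finset.sum_congr rfl fun i _ => ?_
    rw [Finset.sum_eq_single j]
    · rw [if_pos rfl]
    · intro b _ hb
      rw [if_neg hb, mul_zero]
    · intro h
      exact absurd (Finset.mem_univ _) h
  have h4 : ∑ x : G, (if labc x = j then f x else 0) =
      Nat.card H * ∑ i, (F i j : ℂ) * f (w i) := by
    have e1 : ∀ x : G, (if labc x = j then f x else 0) =
        (if labc x = j then f (w (lab x)) else 0) := by
      intro x
      split_ifs with h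
      · exact D.apply hl hr x
      · rfl
    rw [Finset.sum_congr rfl fun x _ => e1 x]
    rw [D.sum_labels fun i j' => if j' = j then f (w i) else 0]
    congr 1
    refine Finset.sum_congr rfl fun i _ => ?_
    rw [Finset.sum_eq_single j]
    · rw [if_pos rfl]
    · intro b _ hb
      rw [if_neg hb, mul_zero]
    · intro h
      exact absurd (Finset.mem_univ _) h
  rw [h3, h4] at h2
  apply mul_left_cancel₀ hH
  rw [h2]
  ring

/-- **the sum over `H`** of a function of the labels of `H \ G / C` -/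
theorem Data.sum_H [Fintype G] [Fintype H] (p : Fin n → ℂ) (g : G) :
    (∑ j, (F (lab g) j : ℂ)) * ∑ k : H, p (labc (g * k)) =
      Nat.card H * ∑ j, (F (lab g) j : ℂ) * p j := by
  classical
  set i := lab g with hi
  have hH : (Nat.card H : ℂ) ≠ 0 := by
    exact_mod_cast Nat.card_pos.ne'
  have h1 : ∀ x : G, lab x = i → ∑ k : H, p (labc (x * k)) = ∑ k : H, p (labc (g * k)) := by
    intro x hx
    obtain ⟨a, ha, b, hb, e⟩ := D.rep x
    obtain ⟨a', ha', b', hb', e'⟩ := D.rep g
    rw [hx] at e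
    rw [← hi] at e'
    have e2 : x = a * a'⁻¹ * g * (b'⁻¹ * b) := by
      calc x = a * w i * b := e
        _ = a * a'⁻¹ * (a' * w i * b') * (b'⁻¹ * b) := by group
        _ = _ := by rw [← e']
    have hbb : b'⁻¹ * b ∈ H := H.mul_mem (H.inv_mem hb') hb
    rw [← Equiv.sum_comp (Equiv.mulLeft (⟨b'⁻¹ * b, hbb⟩ : H)) fun k : H => p (labc (g * k))]
    refine Finset.sum_congr rfl fun k _ => ?_
    congr 1
    rw [e2, mul_assoc, mul_assoc, D.cl _ (H.mul_mem ha (H.inv_mem ha'))]
    rfl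
  have h2 : ∑ x : G, (if lab x = i then ∑ k : H, p (labc (x * k)) else 0) =
      Nat.card H * ∑ x : G, (if lab x = i then p (labc x) else 0) := by
    have e1 : ∀ x : G, (if lab x = i then ∑ k : H, p (labc (x * k)) else 0) =
        ∑ k : H, (if lab x = i then p (labc (x * k)) else 0) := by
      intro x
      split_ifs
      · rfl
      · simp
    rw [Finset.sum_congr rfl fun x _ => e1 x, Finset.sum_comm]
    have e2 : ∀ k : H, ∑ x : G, (if lab x = i then p (labc (x * k)) else 0) =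
        ∑ x : G, (if lab x = i then p (labc x) else 0) := by
      intro k
      rw [← Equiv.sum_comp (Equiv.mulRight (k : G)) fun x : G => (if lab x = i then p (labc x) else 0)]
      refine Finset.sum_congr rfl fun x _ => ?_
      rw [Equiv.coe_mulRight, D.lr k k.2]
    rw [Finset.sum_congr rfl fun c _ => e2 c, Finset.sum_const, Finset.card_univ,
      ← Nat.card_eq_fintype_card, nsmul_eq_mul]
  have h3 : ∑ x : G, (if lab x = i then ∑ k : H, p (labc (x * k)) else 0) =
      Nat.card H * ((∑ j, (F i j : ℂ)) * ∑ k : H, p (labc (g * k))) := by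
    have e1 : ∀ x : G, (if lab x = i then ∑ k : H, p (labc (x * k)) else 0) =
        (if lab x = i then ∑ k : H, p (labc (g * k)) else 0) := by
      intro x
      split_ifs with h
      · exact h1 x h
      · rfl
    rw [Finset.sum_congr rfl fun x _ => e1 x]
    rw [D.sum_labels fun i' _ => if i' = i then ∑ k : H, p (labc (g * k)) else 0]
    congr 1
    rw [Finset.sum_eq_single i]
    · simp only [if_pos]
      rw [Finset.sum_mul]
    · intro b _ hb
      simp only [if_neg hb, mul_zero, Finset.sum_const_zero]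
    · intro h
      exact absurd (Finset.mem_univ _) h
  have h4 : ∑ x : G, (if lab x = i then p (labc x) else 0) =
      Nat.card H * ∑ j, (F i j : ℂ) * p j := by
    rw [D.sum_labels fun i' j => if i' = i then p j else 0]
    congr 1
    rw [Finset.sum_eq_single i]
    · simp only [if_pos]
    · intro b _ hb
      simp only [if_neg hb, mul_zero, Finset.sum_const_zero]
    · intro h
      exact absurd (Finset.mem_univ _) h
  rw [h3, h4] at h2
  exact mul_left_cancel₀ hH h2

/-- If the numbers of cosets are distinct, the double cosets are closed under inverses. -/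
theorem Data.inv_of_inj [Finite G] (hinj : ∀ i i', ∑ j, F i j = ∑ j, F i' j → i = i') (g : G) :
    lab g⁻¹ = lab g := by
  classical
  have := Fintype.ofFinite G
  have hcnt : ∀ i, ((Finset.univ.filter fun x : G => lab x = i).card : ℂ) =
      Nat.card H * (∑ j, F i j : ℕ) := by
    intro i
    have h2 := D.sum_labels fun i' _ => if i' = i then (1 : ℂ) else 0
    rw [Finset.sum_boole] at h2
    rw [h2]
    congr 1
    rw [Finset.sum_eq_single i]
    · simp
    · intro b _ hb
      simp [hb]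
    · intro h
      exact absurd (Finset.mem_univ _) h
  have hH : (Nat.card H : ℂ) ≠ 0 := by exact_mod_cast Nat.card_pos.ne'
  have key : ∀ x y : G, lab x = lab y → lab x⁻¹ = lab y⁻¹ := by
    intro x y hxy
    obtain ⟨a, ha, b, hb, e⟩ := D.rep x
    obtain ⟨a', ha', b', hb', e'⟩ := D.rep y
    rw [hxy] at e
    have e2 : x⁻¹ = (b⁻¹ * b') * y⁻¹ * (a' * a⁻¹) := by
      calc x⁻¹ = (a * w (lab y) * b)⁻¹ := by rw [← e]
        _ = (b⁻¹ * b') * (a' * w (lab y) * b')⁻¹ * (a' * a⁻¹) := by group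
        _ = _ := by rw [← e']
    rw [e2, D.lr _ (H.mul_mem ha' (H.inv_mem ha)), D.ll _ (H.mul_mem (H.inv_mem hb) hb')]
  have h1 : (Finset.univ.filter fun x : G => lab x = lab g).card =
      (Finset.univ.filter fun x : G => lab x = lab g⁻¹).card := by
    refine Finset.card_bij' (fun x _ => x⁻¹) (fun x _ => x⁻¹) ?_ ?_ (fun x _ => inv_inv x)
      (fun x _ => inv_inv x)
    · intro x hx
      exact Finset.mem_filter.2 ⟨Finset.mem_univ _, key _ _ (Finset.mem_filter.1 hx).2⟩
    · intro x hx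
      refine Finset.mem_filter.2 ⟨Finset.mem_univ _, ?_⟩
      have h2 := key _ _ (Finset.mem_filter.1 hx).2
      rwa [inv_inv] at h2
  have h2 := hcnt (lab g)
  rw [h1, hcnt (lab g⁻¹)] at h2
  have h3 := mul_left_cancel₀ hH h2
  exact hinj _ _ (by exact_mod_cast h3)

/-- **Irreducible characters from the table `F`.** -/
theorem Data.exists_irr [Finite G] (A : Fin m → Fin m → ℕ) {d : ℚ} (hd : d ≠ 0)
    (ha : ∀ i, (∑ j, F i j) ≠ 0) (hb : ∀ j, (∑ i, F i j) ≠ 0)
    (hA : ∀ i l, d * ∑ j, (F i j : ℚ) * F l j / (∑ i', F i' j : ℕ) = A i l * (∑ j, F i j : ℕ))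
    (hinv : ∀ g, lab g⁻¹ = lab g) (i0 : Fin m) (hi0 : w i0 = 1) (h1 : lab 1 = i0)
    (v : Fin m → ℚ) (μ : ℚ) (hv0 : v i0 = 1)
    (hv : ∀ i, ∑ j, (A i j : ℚ) * v j = μ * v i)
    (hu : ∀ x : Fin m → ℂ, (∀ i, ∑ j, (A i j : ℂ) * x j = μ * x i) → ∀ i, x i = x i0 * v i) :
    ∃ χ : IrrCharacter G, (χ : G → ℂ) 1 * ((∑ i, ((∑ j, F i j : ℕ) : ℚ) * v i ^ 2 : ℚ) : ℂ) =
      H.index := by
  classical
  have := Fintype.ofFinite G
  have := Fintype.ofFinite H
  have := Fintype.ofFinite C
  have hH : (Nat.card H : ℂ) ≠ 0 := by exact_mod_cast Nat.card_pos.ne'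
  have hC : (Nat.card C : ℂ) ≠ 0 := by exact_mod_cast Nat.card_pos.ne'
  have hdc : (d : ℂ) ≠ 0 := by exact_mod_cast hd
  have ha' : ∀ i, ((∑ j, F i j : ℕ) : ℂ) ≠ 0 := fun i => by exact_mod_cast ha i
  have hb' : ∀ j, ((∑ i, F i j : ℕ) : ℂ) ≠ 0 := fun j => by exact_mod_cast hb j
  -- the operator
  have hop : ∀ f : G → ℂ, (∀ h ∈ H, ∀ g, f (h * g) = f g) → (∀ h ∈ H, ∀ g, f (g * h) = f g) →
      ∀ g, ∑ s : H × C, f (g * ((s.1 : G) * s.2)) =
        (Nat.card H * Nat.card C / d) * ∑ l, (A (lab g) l : ℂ) * f (w l) := by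
    intro f hl hr g
    rw [Fintype.sum_prod_type]
    set p : Fin n → ℂ := fun j => Nat.card C * (∑ i, (F i j : ℂ) * f (w i)) / (∑ i, F i j : ℕ) with hp
    have e1 : ∀ k : H, ∑ c : C, f (g * ((k : G) * c)) = p (labc (g * k)) := by
      intro k
      have h2 := D.sum_C hl hr (g * k)
      rw [hp]
      simp only
      rw [eq_div_iff (hb' _), ← h2]
      push_cast
      rw [mul_comm]
      congr 1
      refine Finset.sum_congr rfl fun c _ => ?_
      rw [mul_assoc]
    rw [Finset.sum_congr rfl fun k _ => e1 k]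
    have h3 := D.sum_H p g
    apply mul_left_cancel₀ (ha' (lab g))
    have e2 : ((∑ j, F (lab g) j : ℕ) : ℂ) = ∑ j, (F (lab g) j : ℂ) := by push_cast; rfl
    have e3 : ∑ j, (F (lab g) j : ℂ) * p j =
        Nat.card C * ∑ l, (∑ j, (F (lab g) j : ℂ) * F l j / (∑ i', F i' j : ℕ)) * f (w l) := by
      rw [hp]
      simp only
      have e4 : ∀ j, (F (lab g) j : ℂ) * (Nat.card C * (∑ i, (F i j : ℂ) * f (w i)) / (∑ i, F i j : ℕ)) =
          Nat.card C * ∑ i, ((F (lab g) j : ℂ) * F i j / (∑ i', F i' j : ℕ)) * f (w i) := by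
        intro j
        rw [Finset.mul_sum, Finset.mul_sum, Finset.sum_div, Finset.mul_sum]
        refine Finset.sum_congr rfl fun i _ => ?_
        ring
      rw [Finset.sum_congr rfl fun j _ => e4 j, ← Finset.mul_sum, Finset.sum_comm]
      congr 1
      refine Finset.sum_congr rfl fun l _ => ?_
      rw [Finset.sum_mul]
    have e5 : ∀ l, (∑ j, (F (lab g) j : ℂ) * F l j / (∑ i', F i' j : ℕ)) =
        (A (lab g) l * (∑ j, F (lab g) j : ℕ) : ℂ) / d := by
      intro l
      rw [eq_div_iff hdc, mul_comm]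
      have h5 := hA (lab g) l
      have h6 : ((d * ∑ j, (F (lab g) j : ℚ) * F l j / (∑ i', F i' j : ℕ) : ℚ) : ℂ) =
          ((A (lab g) l * (∑ j, F (lab g) j : ℕ) : ℚ) : ℂ) := by rw [h5]
      push_cast at h6 ⊢
      exact h6
    have e3' : ∑ j, (F (lab g) j : ℂ) * p j =
        Nat.card C * ((∑ j, F (lab g) j : ℕ) / d * ∑ l, (A (lab g) l : ℂ) * f (w l)) := by
      rw [e3]
      congr 1
      rw [Finset.mul_sum]
      refine Finset.sum_congr rfl fun l _ => ?_
      rw [e5]
      ring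
    rw [e2, h3, e3']
    rw [e2]
    ring
  -- the function
  have hcnt : ∀ i, ((Finset.univ.filter fun x : G => lab x = i).card : ℂ) =
      Nat.card H * (∑ j, F i j : ℕ) := by
    intro i
    have h2 := D.sum_labels fun i' _ => if i' = i then (1 : ℂ) else 0
    rw [Finset.sum_boole] at h2
    rw [h2]
    congr 1
    rw [Finset.sum_eq_single i]
    · simp
    · intro b _ hb
      simp [hb]
    · intro h
      exact absurd (Finset.mem_univ _) h
  set K : ℚ := ∑ i, ((∑ j, F i j : ℕ) : ℚ) * v i ^ 2 with hK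
  have hKpos : 0 < K := by
    rw [hK]
    refine Finset.sum_pos' (fun i _ => by positivity) ⟨i0, Finset.mem_univ _, ?_⟩
    rw [hv0, one_pow, mul_one]
    exact_mod_cast Nat.pos_of_ne_zero (ha i0)
  have hKc : (K : ℂ) ≠ 0 := by exact_mod_cast hKpos.ne'
  have hκ : ∑ z : G, ((v (lab z) : ℚ) : ℂ) * ((v (lab z⁻¹) : ℚ) : ℂ) = (Nat.card H : ℂ) * K := by
    have h2 : ∀ z, ((v (lab z) : ℚ) : ℂ) * ((v (lab z⁻¹) : ℚ) : ℂ) = ((v (lab z) : ℚ) : ℂ) ^ 2 := by
      intro z
      rw [hinv, sq]
    rw [Finset.sum_congr rfl fun z _ => h2 z]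
    rw [D.sum_labels fun i _ => ((v i : ℚ) : ℂ) ^ 2, hK]
    congr 1
    push_cast
    refine Finset.sum_congr rfl fun i _ => ?_
    rw [Finset.sum_mul]
  have hmain := exists_irr_of_op H (fun s : H × C => (s.1 : G) * s.2)
    (φ := fun g => ((v (lab g) : ℚ) : ℂ)) (μ := Nat.card H * Nat.card C / d * μ)
    (κ := (Nat.card H : ℂ) * K) ?_ ?_ ?_ ?_ ?_ hκ (mul_ne_zero hH hKc)
  · obtain ⟨χ, hχ⟩ := hmain
    refine ⟨χ, ?_⟩
    have h2 := H.card_mul_index
    have h3 : ((Nat.card H : ℕ) : ℂ) * H.index = Nat.card G := by exact_mod_cast h2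
    rw [← h3] at hχ
    apply mul_left_cancel₀ hH
    rw [← hχ]
    ring
  · intro h hh g
    show ((v (lab (h * g)) : ℚ) : ℂ) = v (lab g)
    rw [D.ll h hh]
  · intro h hh g
    show ((v (lab (g * h)) : ℚ) : ℂ) = v (lab g)
    rw [D.lr h hh]
  · show ((v (lab 1) : ℚ) : ℂ) = 1
    rw [h1, hv0, Rat.cast_one]
  · intro g
    show ∑ s : H × C, ((v (lab (g * ((s.1 : G) * s.2))) : ℚ) : ℂ) = _
    rw [hop (fun g => ((v (lab g) : ℚ) : ℂ)) (fun h hh g => by
      show ((v (lab (h * g)) : ℚ) : ℂ) = v (lab g)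
      rw [D.ll h hh]) (fun h hh g => by
      show ((v (lab (g * h)) : ℚ) : ℂ) = v (lab g)
      rw [D.lr h hh])]
    have hlabw : ∀ l, ((v (lab (w l)) : ℚ) : ℂ) = v l := by
      intro l
      have h2 : 0 < (Finset.univ.filter fun x : G => lab x = l).card := by
        have h3 := hcnt l
        rcases Nat.eq_zero_or_pos (Finset.univ.filter fun x : G => lab x = l).card with h4 | h4
        · rw [h4, Nat.cast_zero] at h3
          exact absurd h3.symm (mul_ne_zero hH (ha' l))
        · exact h4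
      obtain ⟨x, hx⟩ := Finset.card_pos.1 h2
      have hx := (Finset.mem_filter.1 hx).2
      obtain ⟨a, ha, b, hb, e⟩ := D.rep x
      have h3 : lab x = lab (w (lab x)) := by
        nth_rewrite 1 [e]
        rw [D.lr b hb, D.ll a ha]
      rw [hx] at h3
      rw [← h3]
    have h2 : ∑ l, (A (lab g) l : ℂ) * ((v (lab (w l)) : ℚ) : ℂ) = μ * v (lab g) := by
      have h3 := hv (lab g)
      have h4 : ((∑ j, (A (lab g) j : ℚ) * v j : ℚ) : ℂ) = ((μ * v (lab g) : ℚ) : ℂ) := by rw [h3]
      push_cast at h4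
      rw [← h4]
      exact Finset.sum_congr rfl fun l _ => by rw [hlabw]
    rw [h2]
    ring
  · intro f hl hr hT g
    have hne : (Nat.card H * Nat.card C / d : ℂ) ≠ 0 := div_ne_zero (mul_ne_zero hH hC) hdc
    have hall : ∀ i, ∃ g, lab g = i := by
      intro i
      have h2 : 0 < (Finset.univ.filter fun x : G => lab x = i).card := by
        have h3 := hcnt i
        rcases Nat.eq_zero_or_pos (Finset.univ.filter fun x : G => lab x = i).card with h4 | h4
        · rw [h4, Nat.cast_zero] at h3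
          exact absurd h3.symm (mul_ne_zero hH (ha' i))
        · exact h4
      obtain ⟨x, hx⟩ := Finset.card_pos.1 h2
      exact ⟨x, (Finset.mem_filter.1 hx).2⟩
    have h2 := hu (fun i => f (w i)) (fun i => by
      obtain ⟨g', rfl⟩ := hall i
      have h3 := hT g'
      rw [hop f hl hr, mul_assoc] at h3
      rw [← D.apply hl hr g']
      exact mul_left_cancel₀ hne h3) (lab g)
    rw [D.apply hl hr g, h2, hi0]

end

end Cfsg.Agent.H399.Two.Bip
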