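import Cfsg.Agent.H399.Two.Bip
import Cfsg.Agent.Th.Main475
import Cfsg.Agent.Th.CenterTh

/-!
# The double cosets `K \ Th / K` and `K \ Th / C(z)`, `K = 3D4(2):3` (helper399)

The numbers of cosets, from the certificate of the order of the Thompson group (`Cfsg.Agent.Th`).
-/

set_option autoImplicit false
set_option maxRecDepth 100000
set_option linter.unusedSectionVars false

namespace Cfsg.Agent.H399.Two.ThData

open Cfsg Subgroup
open Cfsg.Agent.Th.Base Cfsg.Agent.Th.Word Cfsg.Agent.Th.KOracle Cfsg.Agent.Th.COracleDef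
  Cfsg.Agent.Th.IndexUpper Cfsg.Agent.Th.FlagCover Cfsg.Agent.Th.FlagData Cfsg.Agent.Th.FlagCheck
  Cfsg.Agent.Th.FactData Cfsg.Agent.Th.CoverData Cfsg.Agent.Th.IndexBound Cfsg.Agent.Th.FlagBound
open Cfsg.Agent.Th.PathCover (unl ev_unl)
open Cfsg.Agent.Lib.PathCheck (Fact Holds)

universe u

/-! ### numbers -/

/-- number of cosets -/
def Fn (i j : ℕ) : ℕ := ((FL j).map fun e => bif Nat.beq (tab e.f).n1 i then e.N else 0).sum

/-- the flags belong to the glue facts -/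
theorem fl_gl : ∀ j : Fin 13, ((FL (j + 11)).all fun e => (gl (j + 11)).elem e.f) = true := by
  decide +kernel

theorem sum_all' (j : Fin 13) : ((FL (j + 11)).map FE.N).sum = mN (j + 11) :=
  Cfsg.Agent.Th.FlagChk.sum_all (j + 11) (by omega) (by omega)

section

variable {G : Type u} [Group G] {γ g : ℕ → G} (h : Cx γ g)

/-- `C`-index -/
abbrev Ix : Type := Σ j : Fin 13, Fin (FL (j + 11)).length

/-- entry -/
def en (x : Ix) : FE := (FL (x.1 + 11)).get x.2

theorem en_mem (x : Ix) : en x ∈ FL (x.1 + 11) := List.get_mem _ _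

theorem sum_ix (p : Fin 13 → FE → ℕ) :
    ∑ x : Ix, p x.1 (en x) = ∑ j : Fin 13, ((FL (j + 11)).map (p j)).sum := by
  rw [Fintype.sum_sigma]
  refine Finset.sum_congr rfl fun j _ => ?_
  have h1 : (FL (j + 11)).map (p j) = List.ofFn fun k : Fin (FL (j + 11)).length =>
      p j ((FL (j + 11)).get k) := by
    apply List.ext_getElem
    · simp
    · intro n h1 h2
      simp
  rw [h1, List.sum_ofFn]
  rfl

include h

theorem node_lt (x : Ix) : (tab (en x).f).n1 < 11 ∧ (tab (en x).f).n2 = x.1 + 11 ∧ (en x).f < 497 ∧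
    (∀ y ∈ unl (tab (en x).f).w1, isK y = true) ∧ (∀ y ∈ unl (tab (en x).f).w2, isC y = true) := by
  have h1 := List.all_eq_true.1 (fl_gl x.1) _ (en_mem x)
  have h2 : (en x).f ∈ gl (x.1 + 11) := List.elem_iff.1 h1
  obtain ⟨a1, a2, a3, a4⟩ := hglM (x.1 + 11) (by omega) (by omega) _ h2
  exact ⟨a3, a2, a1, (allL_iff _ _).1 a4, (allL_iff _ _).1 ((hletM (x.1 + 11) (by omega) (by omega)).2 _ h2)⟩

/-- a flag is in one orbit of `K` -/
theorem fl_orb (x : Ix) : fl γ g (en x) ⊆ orb (sub γ isK) γ (g (tab (en x).f).n1) := by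
  obtain ⟨h1, h2, h3, h4, h5⟩ := node_lt h x
  rintro _ ⟨b, hb, rfl⟩
  exact ⟨ev γ (unl (tab (en x).f).w1) * b, Subgroup.mul_mem _ (ev_mem_sub h4) (B_le_K hb), by
    rw [mul_assoc]⟩

/-- a flag is in one orbit of `C` -/
theorem fl_orbC (x : Ix) : fl γ g (en x) ⊆ orbC γ g (x.1 + 11) := by
  obtain ⟨h1, h2, h3, h4, h5⟩ := node_lt h x
  rintro _ ⟨b, hb, rfl⟩
  refine ⟨ev γ (unl (tab (en x).f).w2) * b, Subgroup.mul_mem _ (ev_mem_sub h5) (B_le_C hb), ?_⟩
  have h6 := h.F _ h3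
  unfold Holds at h6
  rw [h2, ← ev_unl, ← ev_unl] at h6
  rw [pt_eq_iff, ← mul_assoc]
  exact Cfsg.Agent.Lib.PathCheck.Rel.mul_right h6 b

theorem fl_nonempty (x : Ix) : (fl γ g (en x)).Nonempty :=
  ⟨_, 1, Subgroup.one_mem _, rfl⟩

/-- the flags cover -/
theorem fl_cover (y : G ⧸ sub γ isK) : ∃ x : Ix, y ∈ fl γ g (en x) := by
  obtain ⟨j, h1, h2, h3⟩ := h.cover y
  obtain ⟨e, he, hy⟩ := Set.mem_iUnion₂.1 (h.coverC j h1 h2 h3)
  have e1 : ((⟨j - 11, by omega⟩ : Fin 13) : ℕ) + 11 = j := by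
    show j - 11 + 11 = j
    omega
  obtain ⟨k, hk⟩ := List.mem_iff_get.1 (show e ∈ FL (((⟨j - 11, by omega⟩ : Fin 13) : ℕ) + 11) by
    rw [e1]; exact he)
  refine ⟨⟨⟨j - 11, by omega⟩, k⟩, ?_⟩
  show y ∈ fl γ g ((FL _).get k)
  rw [hk]
  exact hy

variable (hind : (sub γ isK).index = 143127000)
include hind

theorem finX : Finite (G ⧸ sub γ isK) := by
  apply Nat.finite_of_card_ne_zero
  change (sub γ isK).index ≠ 0
  rw [hind]; norm_num

/-- the number of points in the intersection of two orbits -/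
theorem card_inter (i : Fin 11) (j : Fin 13) :
    Nat.card {y : G ⧸ sub γ isK // y ∈ orb (sub γ isK) γ (g i) ∧ y ∈ orbC γ g (j + 11)} =
      Fn i (j + 11) := by
  classical
  have hfin := finX h hind
  obtain ⟨-, hdK⟩ := Cfsg.Agent.Th.CenterTh.exact h.N h.inv h.K h.gen hind
  obtain ⟨-, hC2, hC3, hC4⟩ := Cfsg.Agent.Th.CentTh.hyps h hind
  obtain ⟨-, hdC⟩ := Cfsg.Agent.Th.OrbitSum.exact_of_cover (fun i : Fin 13 => orbC γ g (i + 11))
    (fun i => mN (i + 11)) hC2 hC3 hC4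
  have hle : ∀ x : Ix, Nat.card (fl γ g (en x)) ≤ (en x).N := fun x => by
    rw [Nat.card_coe_set_eq]
    exact (h.flag_le (x.1 + 11) (by omega) (by omega) _ (en_mem x)).2
  have hsum : ∑ x : Ix, (en x).N ≤ Nat.card (G ⧸ sub γ isK) := by
    rw [sum_ix fun _ e => e.N]
    have h1 : ∑ j : Fin 13, ((FL (j + 11)).map fun e => e.N).sum = ∑ j : Fin 13, mN (j + 11) :=
      Finset.sum_congr rfl fun j _ => sum_all' j
    rw [h1, Cfsg.Agent.Th.CentTh.sum_m]
    exact hind.ge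
  have hS : ∀ x : Ix, (∃ y ∈ fl γ g (en x),
      y ∈ {y | y ∈ orb (sub γ isK) γ (g i) ∧ y ∈ orbC γ g (j + 11)}) →
      fl γ g (en x) ⊆ {y | y ∈ orb (sub γ isK) γ (g i) ∧ y ∈ orbC γ g (j + 11)} := by
    rintro x ⟨y, hy, hy1, hy2⟩ z hz
    have h3 := hdK ⟨_, (node_lt h x).1⟩ i y (fl_orb h x hy) hy1
    have h4 := hdC x.1 j y (fl_orbC h x hy) hy2
    refine ⟨?_, ?_⟩
    · rw [← h3]
      exact fl_orb h x hz
    · rw [← h4]
      exact fl_orbC h x hz
  obtain ⟨J, hJ, hcard⟩ := Cfsg.Agent.Th.OrbitSum.card_eq_sum (fun x : Ix => fl γ g (en x))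
    (fun x => (en x).N) (fl_cover h) hle hsum
    {y | y ∈ orb (sub γ isK) γ (g i) ∧ y ∈ orbC γ g (j + 11)} hS
  · have h1 : Nat.card {y : G ⧸ sub γ isK // y ∈ orb (sub γ isK) γ (g i) ∧ y ∈ orbC γ g (j + 11)} =
        ∑ x ∈ J, (en x).N := hcard
    rw [h1]
    have h2 : ∀ x : Ix, x ∈ J ↔ (tab (en x).f).n1 = i ∧ x.1 = j := by
      intro x
      rw [hJ]
      constructor
      · rintro ⟨y, hy, hy1, hy2⟩
        have h3 := hdK ⟨_, (node_lt h x).1⟩ i y (fl_orb h x hy) hy1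
        have h4 := hdC x.1 j y (fl_orbC h x hy) hy2
        exact ⟨congrArg Fin.val h3, h4⟩
      · rintro ⟨h3, rfl⟩
        obtain ⟨y, hy⟩ := fl_nonempty h x
        exact ⟨y, hy, by rw [← h3]; exact fl_orb h x hy, fl_orbC h x hy⟩
    have h3 : J = Finset.univ.filter fun x : Ix => (tab (en x).f).n1 = i ∧ x.1 = j := by
      ext x
      rw [h2]
      simp
    rw [h3, Finset.sum_filter, sum_ix fun j' e => if (tab e.f).n1 = i ∧ j' = j then e.N else 0,
      Finset.sum_eq_single j]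
    · unfold Fn
      congr 1
      refine List.map_congr_left fun e _ => ?_
      by_cases h4 : (tab e.f).n1 = i
      · rw [if_pos ⟨h4, rfl⟩, h4]
        simp
      · rw [if_neg fun h5 => h4 h5.1]
        have : Nat.beq (tab e.f).n1 i = false := by
          cases hb : Nat.beq (tab e.f).n1 i with
          | true => exact absurd (Nat.eq_of_beq_eq_true hb) h4
          | false => rfl
        rw [this]
        rfl
    · intro j' _ hj'
      apply List.sum_eq_zero
      intro a ha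
      obtain ⟨e, -, rfl⟩ := List.mem_map.1 ha
      rw [if_neg fun h5 => hj' h5.2]
    · intro h4
      exact absurd (Finset.mem_univ _) h4
end

/-- the fibres of `pt` -/
theorem card_pt {G : Type u} [Group G] (H : Subgroup G) (S : Set (G ⧸ H)) :
    Nat.card {x : G // pt H x ∈ S} = Nat.card H * Nat.card S := by
  have h1 : Nat.card ((QuotientGroup.mk : G → G ⧸ H) ⁻¹' S) = Nat.card H * Nat.card S := by
    rw [Nat.card_congr (QuotientGroup.preimageMkEquivSubgroupProdSet H _), Nat.card_prod]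
  rw [← h1]
  refine Nat.card_congr
    { toFun := fun g => ⟨g.1⁻¹, g.2⟩
      invFun := fun g => ⟨g.1⁻¹, ?_⟩
      left_inv := fun g => Subtype.ext (inv_inv _)
      right_inv := fun g => Subtype.ext (inv_inv _) }
  show (((g.1⁻¹)⁻¹ : G) : G ⧸ H) ∈ S
  rw [inv_inv]
  exact g.2

/-! ### the labels -/

section

variable {G : Type u} [Group G] {γ g : ℕ → G} (h : Cx γ g) (hind : (sub γ isK).index = 143127000)
include h

theorem exists_lab (y : G) : ∃ i : Fin 11, pt (sub γ isK) y ∈ orb (sub γ isK) γ (g i) := by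
  have hx : pt (sub γ isK) y ∈ (Set.univ : Set (G ⧸ sub γ isK)) := Set.mem_univ _
  rw [h.N.univ h.inv h.gen] at hx
  obtain ⟨i, hi, hx⟩ := Set.mem_iUnion₂.mp hx
  exact ⟨⟨i, Finset.mem_range.mp hi⟩, hx⟩

theorem exists_labc (y : G) : ∃ j : Fin 13, pt (sub γ isK) y ∈ orbC γ g (j + 11) := by
  obtain ⟨j, h1, h2, h3⟩ := h.cover (pt (sub γ isK) y)
  have e1 : ((⟨j - 11, by omega⟩ : Fin 13) : ℕ) + 11 = j := by
    show j - 11 + 11 = j
    omega
  exact ⟨⟨j - 11, by omega⟩, by rw [e1]; exact h3⟩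

/-- the label of the double coset `K y K` -/
noncomputable def lab (y : G) : Fin 11 := (exists_lab h y).choose

theorem lab_spec (y : G) : pt (sub γ isK) y ∈ orb (sub γ isK) γ (g (lab h y)) := (exists_lab h y).choose_spec

/-- the label of the double coset `K y C` -/
noncomputable def labc (y : G) : Fin 13 := (exists_labc h y).choose

theorem labc_spec (y : G) : pt (sub γ isK) y ∈ orbC γ g (labc h y + 11) := (exists_labc h y).choose_spec

include hind

theorem lab_eq {y : G} {i : Fin 11} (hy : pt (sub γ isK) y ∈ orb (sub γ isK) γ (g i)) : lab h y = i :=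
  (Cfsg.Agent.Th.CenterTh.exact h.N h.inv h.K h.gen hind).2 _ _ _ (lab_spec h y) hy

theorem labc_eq {y : G} {j : Fin 13} (hy : pt (sub γ isK) y ∈ orbC γ g (j + 11)) : labc h y = j := by
  have hfin := finX h hind
  obtain ⟨-, hC2, hC3, hC4⟩ := Cfsg.Agent.Th.CentTh.hyps h hind
  exact (Cfsg.Agent.Th.OrbitSum.exact_of_cover (fun i : Fin 13 => orbC γ g (i + 11))
    (fun i => mN (i + 11)) hC2 hC3 hC4).2 _ _ _ (labc_spec h y) hy

omit hind in
theorem pt_left {a : G} (ha : a ∈ sub γ isK) (y : G) : pt (sub γ isK) (a * y) = pt (sub γ isK) y := by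
  rw [pt_eq_iff]
  show a * y * y⁻¹ ∈ sub γ isK
  rwa [mul_inv_cancel_right]

/-- **the data** -/
theorem data : Bip.Data (sub γ isK) (sub γ isC) (lab h) (labc h) (fun i : Fin 11 => g i)
    (fun (i : Fin 11) (j : Fin 13) => Fn i (j + 11)) where
  ll := fun a ha y => lab_eq h hind (by rw [pt_left h ha]; exact lab_spec h y)
  lr := fun k hk y => by
    obtain ⟨k', hk', e⟩ := lab_spec h y
    refine lab_eq h hind ⟨k' * k, Subgroup.mul_mem _ hk' hk, ?_⟩
    rw [pt_eq_iff] at e ⊢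
    rw [← mul_assoc]
    exact Cfsg.Agent.Lib.PathCheck.Rel.mul_right e k
  cl := fun a ha y => labc_eq h hind (by rw [pt_left h ha]; exact labc_spec h y)
  cr := fun k hk y => by
    obtain ⟨k', hk', e⟩ := labc_spec h y
    refine labc_eq h hind ⟨k' * k, Subgroup.mul_mem _ hk' hk, ?_⟩
    rw [pt_eq_iff] at e ⊢
    rw [← mul_assoc]
    exact Cfsg.Agent.Lib.PathCheck.Rel.mul_right e k
  rep := fun y => by
    obtain ⟨k', hk', e⟩ := lab_spec h y
    rw [pt_eq_iff] at e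
    have e' : y * (g (lab h y) * k')⁻¹ ∈ sub γ isK := e
    refine ⟨_, e', k', hk', ?_⟩
    group
  tr := fun x y hxy => by
    obtain ⟨k₁, hk₁, e₁⟩ := labc_spec h x
    obtain ⟨k₂, hk₂, e₂⟩ := labc_spec h y
    rw [pt_eq_iff] at e₁ e₂
    rw [hxy] at e₁
    have e₁' : x * (g (labc h y + 11) * k₁)⁻¹ ∈ sub γ isK := e₁
    have e₂' : y * (g (labc h y + 11) * k₂)⁻¹ ∈ sub γ isK := e₂
    refine ⟨_, Subgroup.mul_mem _ e₂' (Subgroup.inv_mem _ e₁'), _,
      Subgroup.mul_mem _ (Subgroup.inv_mem _ hk₁) hk₂, ?_⟩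
    group
  cnt := fun i j => by
    rw [← card_inter h hind i j]
    refine Eq.trans ?_ (card_pt (sub γ isK) {y | y ∈ orb (sub γ isK) γ (g i) ∧ y ∈ orbC γ g (j + 11)})
    refine Nat.card_congr (Equiv.subtypeEquivRight fun x => ⟨?_, ?_⟩)
    · rintro ⟨rfl, rfl⟩
      exact ⟨lab_spec h x, labc_spec h x⟩
    · rintro ⟨h1, h2⟩
      exact ⟨lab_eq h hind h1, labc_eq h hind h2⟩

end

end Cfsg.Agent.H399.Two.ThData
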