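import Cfsg.Agent.H399.Two.ThData

/-!
# Irreducible characters of the Thompson group of degrees 61256, 30875, 4881384, 51684750 (helper399)

Eigenvalues of the table of `K \ Th / K` and `K \ Th / C(z)`; generated.
-/

set_option autoImplicit false
set_option maxRecDepth 100000
set_option linter.style.longLine false

namespace Cfsg.Agent.H399.Two.ThEig

open Cfsg Subgroup
open Cfsg.Agent.Th.Base Cfsg.Agent.Th.Word Cfsg.Agent.Th.KOracle Cfsg.Agent.Th.COracleDef
  Cfsg.Agent.Th.IndexUpper Cfsg.Agent.Th.FlagCover Cfsg.Agent.Th.FlagData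
  Cfsg.Agent.Th.FactData Cfsg.Agent.Th.IndexBound
open Cfsg.Agent.H399.Two.ThData

/-- the numbers of cosets -/
def Ft : Fin 11 → Fin 13 → ℕ :=
  ![
![1, 0, 0, 0, 0, 0, 0, 0, 0, 0, 0, 0, 0],
    ![56, 1008, 16128, 0, 28672, 0, 0, 0, 0, 0, 0, 0, 0],
    ![63, 1008, 16128, 0, 0, 0, 0, 0, 0, 0, 0, 0, 0],
    ![0, 8064, 96768, 32256, 0, 0, 0, 258048, 258048, 774144, 0, 774144, 0],
    ![0, 0, 129024, 0, 14336, 129024, 0, 0, 0, 258048, 387072, 387072, 0],
    ![0, 0, 0, 32256, 0, 0, 18432, 129024, 0, 0, 0, 0, 0],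
    ![0, 0, 0, 32256, 0, 258048, 645120, 1161216, 2064384, 0, 774144, 1548288, 2322432],
    ![0, 0, 129024, 0, 129024, 129024, 0, 0, 774144, 0, 387072, 1935360, 1548288],
    ![0, 0, 387072, 0, 387072, 387072, 0, 0, 1548288, 1290240, 1161216, 4257792, 2322432],
    ![0, 0, 774144, 387072, 774144, 3870720, 1548288, 13934592, 10063872, 11612160, 11612160, 34836480, 16257024],
    ![0, 0, 387072, 0, 387072, 387072, 0, 0, 774144, 1548288, 1161216, 2709504, 774144]]

theorem Fn_eq : ∀ (i : Fin 11) (j : Fin 13), Fn i (j + 11) = Ft i j := by decide +kernel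

/-- the table of the operator -/
def A : Fin 11 → Fin 11 → ℕ :=
  ![![819, 45864, 51597, 0, 0, 0, 0, 0, 0, 0, 0],
    ![1, 1584, 567, 3456, 2816, 0, 0, 6912, 20736, 41472, 20736],
    ![3, 1512, 1533, 9216, 6144, 0, 0, 6144, 18432, 36864, 18432],
    ![0, 72, 72, 3288, 1152, 192, 3648, 2304, 8064, 72576, 6912],
    ![0, 99, 81, 1944, 2196, 0, 2916, 2916, 9396, 69984, 8748],
    ![0, 0, 0, 2352, 0, 1848, 9408, 0, 0, 84672, 0],
    ![0, 0, 0, 912, 432, 192, 9912, 3888, 7344, 71712, 3888],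
    ![0, 63, 21, 1008, 756, 0, 6804, 4956, 9828, 69048, 5796],
    ![0, 81, 27, 1512, 1044, 0, 5508, 4212, 9756, 69336, 6804],
    ![0, 18, 6, 1512, 864, 144, 5976, 3288, 7704, 73440, 5328],
    ![0, 117, 39, 1872, 1404, 0, 4212, 3588, 9828, 69264, 7956]]

theorem row_sum : ∀ i : Fin 11, ∑ j, Ft i j = bN i := by decide +kernel

theorem col_sum : ∀ j : Fin 13, ∑ i, Ft i j = mN (j + 11) := by decide +kernel

theorem A_eq : ∀ i l : Fin 11, (98280 : ℚ) * ∑ j, (Ft i j : ℚ) * Ft l j / (∑ i', Ft i' j : ℕ) = A i l * (∑ j, Ft i j : ℕ) := by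
  decide +kernel

theorem bN_inj : ∀ i j : Fin 11, bN i = bN j → i = j := by decide

/-- the equations -/
theorem rows (x : Fin 11 → ℂ) (μ : ℤ) (h : ∀ i, ∑ j, (A i j : ℂ) * x j = ((μ : ℚ) : ℂ) * x i) :
    (819 * x 0 + 45864 * x 1 + 51597 * x 2 = (μ : ℂ) * x 0) ∧
    (1 * x 0 + 1584 * x 1 + 567 * x 2 + 3456 * x 3 + 2816 * x 4 + 6912 * x 7 + 20736 * x 8 + 41472 * x 9 + 20736 * x 10 = (μ : ℂ) * x 1) ∧
    (3 * x 0 + 1512 * x 1 + 1533 * x 2 + 9216 * x 3 + 6144 * x 4 + 6144 * x 7 + 18432 * x 8 + 36864 * x 9 + 18432 * x 10 = (μ : ℂ) * x 2) ∧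
    (72 * x 1 + 72 * x 2 + 3288 * x 3 + 1152 * x 4 + 192 * x 5 + 3648 * x 6 + 2304 * x 7 + 8064 * x 8 + 72576 * x 9 + 6912 * x 10 = (μ : ℂ) * x 3) ∧
    (99 * x 1 + 81 * x 2 + 1944 * x 3 + 2196 * x 4 + 2916 * x 6 + 2916 * x 7 + 9396 * x 8 + 69984 * x 9 + 8748 * x 10 = (μ : ℂ) * x 4) ∧
    (2352 * x 3 + 1848 * x 5 + 9408 * x 6 + 84672 * x 9 = (μ : ℂ) * x 5) ∧
    (912 * x 3 + 432 * x 4 + 192 * x 5 + 9912 * x 6 + 3888 * x 7 + 7344 * x 8 + 71712 * x 9 + 3888 * x 10 = (μ : ℂ) * x 6) ∧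
    (63 * x 1 + 21 * x 2 + 1008 * x 3 + 756 * x 4 + 6804 * x 6 + 4956 * x 7 + 9828 * x 8 + 69048 * x 9 + 5796 * x 10 = (μ : ℂ) * x 7) ∧
    (81 * x 1 + 27 * x 2 + 1512 * x 3 + 1044 * x 4 + 5508 * x 6 + 4212 * x 7 + 9756 * x 8 + 69336 * x 9 + 6804 * x 10 = (μ : ℂ) * x 8) ∧
    (18 * x 1 + 6 * x 2 + 1512 * x 3 + 864 * x 4 + 144 * x 5 + 5976 * x 6 + 3288 * x 7 + 7704 * x 8 + 73440 * x 9 + 5328 * x 10 = (μ : ℂ) * x 9) ∧
    (117 * x 1 + 39 * x 2 + 1872 * x 3 + 1404 * x 4 + 4212 * x 6 + 3588 * x 7 + 9828 * x 8 + 69264 * x 9 + 7956 * x 10 = (μ : ℂ) * x 10) := by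
  have e : ∀ i, A i 0 * x 0 + (A i 1 * x 1 + (A i 2 * x 2 + (A i 3 * x 3 + (A i 4 * x 4 + (A i 5 * x 5 + (A i 6 * x 6 + (A i 7 * x 7 + (A i 8 * x 8 + (A i 9 * x 9 + (A i 10 * x 10 + 0)))))))))) = (μ : ℂ) * x i := by
    intro i
    have h1 := h i
    simp only [Fin.sum_univ_succ, Fin.sum_univ_zero] at h1
    rw [Rat.cast_intCast] at h1
    exact h1
  refine ⟨?_, ?_, ?_, ?_, ?_, ?_, ?_, ?_, ?_, ?_, ?_⟩
  · have h0 : (((819 : ℕ) : ℂ) * x 0) + (((45864 : ℕ) : ℂ) * x 1 + (((51597 : ℕ) : ℂ) * x 2 + (((0 : ℕ) : ℂ) * x 3 + (((0 : ℕ) : ℂ) * x 4 + (((0 : ℕ) : ℂ) * x 5 + (((0 : ℕ) : ℂ) * x 6 + (((0 : ℕ) : ℂ) * x 7 + (((0 : ℕ) : ℂ) * x 8 + (((0 : ℕ) : ℂ) * x 9 + (((0 : ℕ) : ℂ) * x 10 + 0)))))))))) = (μ : ℂ) * x 0 := e 0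
    push_cast at h0
    linear_combination h0
  · have h1 : (((1 : ℕ) : ℂ) * x 0) + (((1584 : ℕ) : ℂ) * x 1 + (((567 : ℕ) : ℂ) * x 2 + (((3456 : ℕ) : ℂ) * x 3 + (((2816 : ℕ) : ℂ) * x 4 + (((0 : ℕ) : ℂ) * x 5 + (((0 : ℕ) : ℂ) * x 6 + (((6912 : ℕ) : ℂ) * x 7 + (((20736 : ℕ) : ℂ) * x 8 + (((41472 : ℕ) : ℂ) * x 9 + (((20736 : ℕ) : ℂ) * x 10 + 0)))))))))) = (μ : ℂ) * x 1 := e 1
    push_cast at h1
    linear_combination h1
  · have h2 : (((3 : ℕ) : ℂ) * x 0) + (((1512 : ℕ) : ℂ) * x 1 + (((1533 : ℕ) : ℂ) * x 2 + (((9216 : ℕ) : ℂ) * x 3 + (((6144 : ℕ) : ℂ) * x 4 + (((0 : ℕ) : ℂ) * x 5 + (((0 : ℕ) : ℂ) * x 6 + (((6144 : ℕ) : ℂ) * x 7 + (((18432 : ℕ) : ℂ) * x 8 + (((36864 : ℕ) : ℂ) * x 9 + (((18432 : ℕ) : ℂ) * x 10 + 0)))))))))) = (μ : ℂ) * x 2 := e 2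
    push_cast at h2
    linear_combination h2
  · have h3 : (((0 : ℕ) : ℂ) * x 0) + (((72 : ℕ) : ℂ) * x 1 + (((72 : ℕ) : ℂ) * x 2 + (((3288 : ℕ) : ℂ) * x 3 + (((1152 : ℕ) : ℂ) * x 4 + (((192 : ℕ) : ℂ) * x 5 + (((3648 : ℕ) : ℂ) * x 6 + (((2304 : ℕ) : ℂ) * x 7 + (((8064 : ℕ) : ℂ) * x 8 + (((72576 : ℕ) : ℂ) * x 9 + (((6912 : ℕ) : ℂ) * x 10 + 0)))))))))) = (μ : ℂ) * x 3 := e 3
    push_cast at h3
    linear_combination h3
  · have h4 : (((0 : ℕ) : ℂ) * x 0) + (((99 : ℕ) : ℂ) * x 1 + (((81 : ℕ) : ℂ) * x 2 + (((1944 : ℕ) : ℂ) * x 3 + (((2196 : ℕ) : ℂ) * x 4 + (((0 : ℕ) : ℂ) * x 5 + (((2916 : ℕ) : ℂ) * x 6 + (((2916 : ℕ) : ℂ) * x 7 + (((9396 : ℕ) : ℂ) * x 8 + (((69984 : ℕ) : ℂ) * x 9 + (((8748 : ℕ) : ℂ) * x 10 + 0)))))))))) = (μ : ℂ) * x 4 := e 4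
    push_cast at h4
    linear_combination h4
  · have h5 : (((0 : ℕ) : ℂ) * x 0) + (((0 : ℕ) : ℂ) * x 1 + (((0 : ℕ) : ℂ) * x 2 + (((2352 : ℕ) : ℂ) * x 3 + (((0 : ℕ) : ℂ) * x 4 + (((1848 : ℕ) : ℂ) * x 5 + (((9408 : ℕ) : ℂ) * x 6 + (((0 : ℕ) : ℂ) * x 7 + (((0 : ℕ) : ℂ) * x 8 + (((84672 : ℕ) : ℂ) * x 9 + (((0 : ℕ) : ℂ) * x 10 + 0)))))))))) = (μ : ℂ) * x 5 := e 5
    push_cast at h5
    linear_combination h5
  · have h6 : (((0 : ℕ) : ℂ) * x 0) + (((0 : ℕ) : ℂ) * x 1 + (((0 : ℕ) : ℂ) * x 2 + (((912 : ℕ) : ℂ) * x 3 + (((432 : ℕ) : ℂ) * x 4 + (((192 : ℕ) : ℂ) * x 5 + (((9912 : ℕ) : ℂ) * x 6 + (((3888 : ℕ) : ℂ) * x 7 + (((7344 : ℕ) : ℂ) * x 8 + (((71712 : ℕ) : ℂ) * x 9 + (((3888 : ℕ) : ℂ) * x 10 + 0)))))))))) = (μ : ℂ) * x 6 := e 6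
    push_cast at h6
    linear_combination h6
  · have h7 : (((0 : ℕ) : ℂ) * x 0) + (((63 : ℕ) : ℂ) * x 1 + (((21 : ℕ) : ℂ) * x 2 + (((1008 : ℕ) : ℂ) * x 3 + (((756 : ℕ) : ℂ) * x 4 + (((0 : ℕ) : ℂ) * x 5 + (((6804 : ℕ) : ℂ) * x 6 + (((4956 : ℕ) : ℂ) * x 7 + (((9828 : ℕ) : ℂ) * x 8 + (((69048 : ℕ) : ℂ) * x 9 + (((5796 : ℕ) : ℂ) * x 10 + 0)))))))))) = (μ : ℂ) * x 7 := e 7
    push_cast at h7
    linear_combination h7
  · have h8 : (((0 : ℕ) : ℂ) * x 0) + (((81 : ℕ) : ℂ) * x 1 + (((27 : ℕ) : ℂ) * x 2 + (((1512 : ℕ) : ℂ) * x 3 + (((1044 : ℕ) : ℂ) * x 4 + (((0 : ℕ) : ℂ) * x 5 + (((5508 : ℕ) : ℂ) * x 6 + (((4212 : ℕ) : ℂ) * x 7 + (((9756 : ℕ) : ℂ) * x 8 + (((69336 : ℕ) : ℂ) * x 9 + (((6804 : ℕ) : ℂ) * x 10 + 0)))))))))) = (μ : ℂ) * x 8 := e 8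
    push_cast at h8
    linear_combination h8
  · have h9 : (((0 : ℕ) : ℂ) * x 0) + (((18 : ℕ) : ℂ) * x 1 + (((6 : ℕ) : ℂ) * x 2 + (((1512 : ℕ) : ℂ) * x 3 + (((864 : ℕ) : ℂ) * x 4 + (((144 : ℕ) : ℂ) * x 5 + (((5976 : ℕ) : ℂ) * x 6 + (((3288 : ℕ) : ℂ) * x 7 + (((7704 : ℕ) : ℂ) * x 8 + (((73440 : ℕ) : ℂ) * x 9 + (((5328 : ℕ) : ℂ) * x 10 + 0)))))))))) = (μ : ℂ) * x 9 := e 9
    push_cast at h9
    linear_combination h9
  · have h10 : (((0 : ℕ) : ℂ) * x 0) + (((117 : ℕ) : ℂ) * x 1 + (((39 : ℕ) : ℂ) * x 2 + (((1872 : ℕ) : ℂ) * x 3 + (((1404 : ℕ) : ℂ) * x 4 + (((0 : ℕ) : ℂ) * x 5 + (((4212 : ℕ) : ℂ) * x 6 + (((3588 : ℕ) : ℂ) * x 7 + (((9828 : ℕ) : ℂ) * x 8 + (((69264 : ℕ) : ℂ) * x 9 + (((7956 : ℕ) : ℂ) * x 10 + 0)))))))))) = (μ : ℂ) * x 10 := e 10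
    push_cast at h10
    linear_combination h10

/-- the eigenvector for the eigenvalue `7560`, degree 61256 -/
def va : Fin 11 → ℚ := ![1, 11/182, 1/13, 5/728, 73/5824, -5/208, -25/2912, 1/832, 1/208, -5/5824, 1/112]

theorem ua (x : Fin 11 → ℂ) (h : ∀ i, ∑ j, (A i j : ℂ) * x j = ((7560 : ℚ) : ℂ) * x i) (i : Fin 11) :
    x i = x 0 * ((va i : ℚ) : ℂ) := by
  have e := rows x 7560 (by push_cast at h ⊢; exact h)
  obtain ⟨h0, h1, h2, h3, h4, h5, h6, h7, h8, h9, h10⟩ := e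
  push_cast at h0 h1 h2 h3 h4 h5 h6 h7 h8 h9 h10
  unfold va
  fin_cases i
  · show x 0 = x 0 * (((1 : ℚ)) : ℂ)
    simp
  · show x 1 = x 0 * (((11/182 : ℚ)) : ℂ)
    push_cast
    linear_combination (824385959/91745244864000) * h0 + (-223241/2800526400) * h1 + (879883/12446784000) * h2 + (599/7203000) * h3 + (343229/7876480500) * h4 + (1013/680683500) * h5 + (-14863/194481000) * h6 + (-901/19448100) * h7 + (-9874/218791125) * h8 + (4867/97240500) * h9
  · show x 2 = x 0 * (((1/13 : ℚ)) : ℂ)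
    push_cast
    linear_combination (1175990041/103213400472000) * h0 + (223241/3150592200) * h1 + (-879883/14002632000) * h2 + (-599/8103375) * h3 + (-686458/17722081125) * h4 + (-2026/1531537875) * h5 + (14863/218791125) * h6 + (1802/43758225) * h7 + (78992/1969120125) * h8 + (-9734/218791125) * h9
  · show x 3 = x 0 * (((5/728 : ℚ)) : ℂ)
    push_cast
    linear_combination (3381243923/3302828815104000) * h0 + (915553/100818950400) * h1 + (3559351/448084224000) * h2 + (-7537/43218000) * h3 + (-472181/141776649000) * h4 + (-47057/12252303000) * h5 + (373657/3500658000) * h6 + (23509/350065800) * h7 + (246961/3938240250) * h8 + (-108763/1750329000) * h9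
  · show x 4 = x 0 * (((73/5824 : ℚ)) : ℂ)
    push_cast
    linear_combination (29033611/15533586432000) * h0 + (8081/474163200) * h1 + (11269/702464000) * h2 + (1/171500) * h3 + (-48521/333396000) * h4 + (19/14406000) * h5 + (1399/16464000) * h6 + (13/274400) * h7 + (1879/37044000) * h8 + (-283/4116000) * h9
  · show x 5 = x 0 * (((-5/208 : ℚ)) : ℂ)
    push_cast
    linear_combination (-120867899/33702334848000) * h0 + (-282467/8230118400) * h1 + (-78269/2286144000) * h2 + (-12197/127008000) * h3 + (-909779/46294416000) * h4 + (-699863/4000752000) * h5 + (65713/1143072000) * h6 + (13051/114307200) * h7 + (93587/642978000) * h8 + (32483/571536000) * h9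
  · show x 6 = x 0 * (((-25/2912 : ℚ)) : ℂ)
    push_cast
    linear_combination (-16920410233/13211315260416000) * h0 + (-633211/50409475200) * h1 + (-21399821/1792336896000) * h2 + (64997/6223392000) * h3 + (7954879/2268426384000) * h4 + (159763/196036848000) * h5 + (-12777413/56010528000) * h6 + (-211031/5601052800) * h7 + (-1091137/31505922000) * h8 + (9033617/28005264000) * h9
  · show x 7 = x 0 * (((1/832 : ℚ)) : ℂ)
    push_cast
    linear_combination (675356371/3774661502976000) * h0 + (24011/115221657600) * h1 + (675527/512096256000) * h2 + (22943/889056000) * h3 + (2342701/324060912000) * h4 + (162397/28005264000) * h5 + (-293597/8001504000) * h6 + (-146549/800150400) * h7 + (-488081/9001692000) * h8 + (978323/4000752000) * h9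
  · show x 8 = x 0 * (((1/208 : ℚ)) : ℂ)
    push_cast
    linear_combination (2104479799/2935847835648000) * h0 + (991033/179233689600) * h1 + (2505863/398297088000) * h2 + (40993/2765952000) * h3 + (4232551/1008189504000) * h4 + (361747/87127488000) * h5 + (104203/24893568000) * h6 + (-40559/2489356800) * h7 + (-2128153/14002632000) * h8 + (1734473/12446784000) * h9
  · show x 9 = x 0 * (((-5/5824 : ℚ)) : ℂ)
    push_cast
    linear_combination (-422983157/3302828815104000) * h0 + (-1890337/1613103206400) * h1 + (-1078643/896168448000) * h2 + (-23189/8297856000) * h3 + (-14725369/9073705536000) * h4 + (19907/784147392000) * h5 + (5883443/224042112000) * h6 + (224561/22404211200) * h7 + (1502857/126023688000) * h8 + (-3392087/112021056000) * h9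
  · show x 10 = x 0 * (((1/112 : ℚ)) : ℂ)
    push_cast
    linear_combination (2709891979/2032510040064000) * h0 + (26183449/1613103206400) * h1 + (51134399/3584673792000) * h2 + (2720467/74680704000) * h3 + (277425223/9073705536000) * h4 + (-4085069/784147392000) * h5 + (-21886181/224042112000) * h6 + (564433/22404211200) * h7 + (14462831/126023688000) * h8 + (-13998871/112021056000) * h9

theorem eiga : ∀ i : Fin 11, ∑ j, (A i j : ℚ) * va j = 7560 * va i := by decide +kernel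

theorem norma : (∑ i, ((∑ j, Ft i j : ℕ) : ℚ) * va i ^ 2 : ℚ) = 143127000 / 61256 := by decide +kernel

/-- the eigenvector for the eigenvalue `4536`, degree 30875 -/
def vb : Fin 11 → ℚ := ![1, 5/98, 17/637, -81/5096, -5/832, -9/208, 9/784, 89/5824, 313/40768, -45/20384, 5/3136]

theorem ub (x : Fin 11 → ℂ) (h : ∀ i, ∑ j, (A i j : ℂ) * x j = ((4536 : ℚ) : ℂ) * x i) (i : Fin 11) :
    x i = x 0 * ((vb i : ℚ) : ℂ) := by
  have e := rows x 4536 (by push_cast at h ⊢; exact h)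
  obtain ⟨h0, h1, h2, h3, h4, h5, h6, h7, h8, h9, h10⟩ := e
  push_cast at h0 h1 h2 h3 h4 h5 h6 h7 h8 h9 h10
  unfold vb
  fin_cases i
  · show x 0 = x 0 * (((1 : ℚ)) : ℂ)
    simp
  · show x 1 = x 0 * (((5/98 : ℚ)) : ℂ)
    push_cast
    linear_combination (36145/2592487296) * h0 + (827/10287648) * h1 + (367/1524096) * h2 + (-6739/3429216) * h3 + (-12265/23147208) * h4 + (-571/1500282) * h5 + (3235/428652) * h6 + (667/142884) * h7 + (12557/2571912) * h8 + (-4157/285768) * h9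
  · show x 2 = x 0 * (((17/637 : ℚ)) : ℂ)
    push_cast
    linear_combination (264947/37915126704) * h0 + (-827/11573604) * h1 + (-367/1714608) * h2 + (6739/3857868) * h3 + (12265/26040609) * h4 + (2284/6751269) * h5 + (-6470/964467) * h6 + (-1334/321489) * h7 + (-12557/2893401) * h8 + (4157/321489) * h9
  · show x 3 = x 0 * (((-81/5096 : ℚ)) : ℂ)
    push_cast
    linear_combination (-26727481/6066420272640) * h0 + (-276523/1481421312) * h1 + (-3371/34292160) * h2 + (1985813/1234517760) * h3 + (955627/1666598976) * h4 + (703097/2160406080) * h5 + (-254831/38578680) * h6 + (-209471/51438240) * h7 + (-3950767/925888320) * h8 + (262079/20575296) * h9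
  · show x 4 = x 0 * (((-5/832 : ℚ)) : ℂ)
    push_cast
    linear_combination (-1145191/684745850880) * h0 + (-3733/41803776) * h1 + (-1213/30965760) * h2 + (20911/17418240) * h3 + (2069/23514624) * h4 + (12743/60963840) * h5 + (-16931/4354560) * h6 + (-881/362880) * h7 + (-32999/13063680) * h8 + (2173/290304) * h9
  · show x 5 = x 0 * (((-9/208 : ℚ)) : ℂ)
    push_cast
    linear_combination (-422987/35372712960) * h0 + (-3103/7558272) * h1 + (-2867/11197440) * h2 + (69071/25194240) * h3 + (29341/34012224) * h4 + (31/196830) * h5 + (-34523/3149280) * h6 + (-6707/1049760) * h7 + (-124069/18895680) * h8 + (8753/419904) * h9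
  · show x 6 = x 0 * (((9/784 : ℚ)) : ℂ)
    push_cast
    linear_combination (23730149/7466363412480) * h0 + (805271/5925685248) * h1 + (289931/4389396480) * h2 + (-3757787/2469035520) * h3 + (-1491073/3333197952) * h4 + (-2319181/8641624320) * h5 + (3012277/617258880) * h6 + (83591/25719120) * h7 + (6296023/1851776640) * h8 + (-390401/41150592) * h9
  · show x 7 = x 0 * (((89/5824 : ℚ)) : ℂ)
    push_cast
    linear_combination (46833571/11092882784256) * h0 + (508457/3386105856) * h1 + (43681/501645312) * h2 + (-365653/282175488) * h3 + (-738811/1904684544) * h4 + (-215255/987614208) * h5 + (337343/70543872) * h6 + (3875/1469664) * h7 + (628289/211631616) * h8 + (-204971/23514624) * h9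
  · show x 8 = x 0 * (((313/40768 : ℚ)) : ℂ)
    push_cast
    linear_combination (30456043/14379662868480) * h0 + (57745/877879296) * h1 + (28009/650280960) * h2 + (-163123/365783040) * h3 + (-66497/493807104) * h4 + (-90779/1280240640) * h5 + (162503/91445760) * h6 + (7853/7620480) * h7 + (230987/274337280) * h8 + (-18889/6096384) * h9
  · show x 9 = x 0 * (((-45/20384 : ℚ)) : ℂ)
    push_cast
    linear_combination (-59244869/97062724362240) * h0 + (-33995/1481421312) * h1 + (-55907/4389396480) * h2 + (1044193/4938071040) * h3 + (407735/6666395904) * h4 + (10151/270050760) * h5 + (-436249/617258880) * h6 + (-92761/205752960) * h7 + (-1732127/3703553280) * h8 + (112099/82301184) * h9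
  · show x 10 = x 0 * (((5/3136 : ℚ)) : ℂ)
    push_cast
    linear_combination (13457939/29865453649920) * h0 + (827801/23702740992) * h1 + (267101/17557585920) * h2 + (-2999117/9876142080) * h3 + (-722551/13332791808) * h4 + (-2685091/34566497280) * h5 + (2294227/2469035520) * h6 + (80111/102876480) * h7 + (7197793/7407106560) * h8 + (-375959/164602368) * h9

theorem eigb : ∀ i : Fin 11, ∑ j, (A i j : ℚ) * vb j = 4536 * vb i := by decide +kernel

theorem normb : (∑ i, ((∑ j, Ft i j : ℕ) : ℚ) * vb i ^ 2 : ℚ) = 143127000 / 30875 := by decide +kernel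

/-- the eigenvector for the eigenvalue `2520`, degree 4881384 -/
def vc : Fin 11 → ℚ := ![1, 41/3822, 31/1323, 55/45864, 1/11648, 5/936, 125/183456, -29/104832, -127/733824, -55/825552, -1/56448]

theorem uc (x : Fin 11 → ℂ) (h : ∀ i, ∑ j, (A i j : ℂ) * x j = ((2520 : ℚ) : ℂ) * x i) (i : Fin 11) :
    x i = x 0 * ((vc i : ℚ) : ℂ) := by
  have e := rows x 2520 (by push_cast at h ⊢; exact h)
  obtain ⟨h0, h1, h2, h3, h4, h5, h6, h7, h8, h9, h10⟩ := e
  push_cast at h0 h1 h2 h3 h4 h5 h6 h7 h8 h9 h10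
  unfold vc
  fin_cases i
  · show x 0 = x 0 * (((1 : ℚ)) : ℂ)
    simp
  · show x 1 = x 0 * (((41/3822 : ℚ)) : ℂ)
    push_cast
    linear_combination (66061/11557728000) * h0 + (-149/211680) * h1 + (-12743/127008000) * h2 + (-563/330750) * h3 + (103/496125) * h4 + (-677/771750) * h5 + (-212/55125) * h6 + (52/33075) * h7 + (1067/496125) * h8 + (1639/496125) * h9
  · show x 2 = x 0 * (((31/1323 : ℚ)) : ℂ)
    push_cast
    linear_combination (14303/1000188000) * h0 + (149/238140) * h1 + (12743/142884000) * h2 + (2252/1488375) * h3 + (-824/4465125) * h4 + (2708/3472875) * h5 + (1696/496125) * h6 + (-416/297675) * h7 + (-8536/4465125) * h8 + (-13112/4465125) * h9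
  · show x 3 = x 0 * (((55/45864 : ℚ)) : ℂ)
    push_cast
    linear_combination (10501/15410304000) * h0 + (-37/2540160) * h1 + (-12967/1524096000) * h2 + (-9763/15876000) * h3 + (607/5953500) * h4 + (-451/18522000) * h5 + (-377/441000) * h6 + (-67/396900) * h7 + (-751/2976750) * h8 + (10991/5953500) * h9
  · show x 4 = x 0 * (((1/11648 : ℚ)) : ℂ)
    push_cast
    linear_combination (36157/35223552000) * h0 + (79/161280) * h1 + (151009/387072000) * h2 + (11101/4032000) * h3 + (-1153/3024000) * h4 + (17/18375) * h5 + (1787/336000) * h6 + (-131/100800) * h7 + (-5267/3024000) * h8 + (-19489/3024000) * h9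
  · show x 5 = x 0 * (((5/936 : ℚ)) : ℂ)
    push_cast
    linear_combination (-17179/2830464000) * h0 + (-239/51840) * h1 + (-114623/31104000) * h2 + (-15769/648000) * h3 + (-181/162000) * h4 + (-2371/252000) * h5 + (-757/13500) * h6 + (97/8100) * h7 + (8273/486000) * h8 + (34141/486000) * h9
  · show x 6 = x 0 * (((125/183456 : ℚ)) : ℂ)
    push_cast
    linear_combination (-675799/554770944000) * h0 + (-2027/2540160) * h1 + (-3973763/6096384000) * h2 + (-282707/63504000) * h3 + (-1381/5292000) * h4 + (-9697/6174000) * h5 + (-52259/5292000) * h6 + (3937/1587600) * h7 + (160369/47628000) * h8 + (560723/47628000) * h9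
  · show x 7 = x 0 * (((-29/104832 : ℚ)) : ℂ)
    push_cast
    linear_combination (4351/3913728000) * h0 + (23/36288) * h1 + (1781147/3483648000) * h2 + (118883/36288000) * h3 + (4301/27216000) * h4 + (12629/10584000) * h5 + (8107/1008000) * h6 + (-259/129600) * h7 + (-62161/27216000) * h8 + (-259187/27216000) * h9
  · show x 8 = x 0 * (((-127/733824 : ℚ)) : ℂ)
    push_cast
    linear_combination (2157661/2219083776000) * h0 + (5407/10160640) * h1 + (10525057/24385536000) * h2 + (705973/254016000) * h3 + (28031/190512000) * h4 + (37237/37044000) * h5 + (137651/21168000) * h6 + (-8663/6350400) * h7 + (-445691/190512000) * h8 + (-1464097/190512000) * h9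
  · show x 9 = x 0 * (((-55/825552 : ℚ)) : ℂ)
    push_cast
    linear_combination (21299/312058656000) * h0 + (4799/91445760) * h1 + (297751/6858432000) * h2 + (182087/571536000) * h3 + (3707/214326000) * h4 + (74899/666792000) * h5 + (16097/23814000) * h6 + (-157/893025) * h7 + (-49727/214326000) * h8 + (-171859/214326000) * h9
  · show x 10 = x 0 * (((-1/56448 : ℚ)) : ℂ)
    push_cast
    linear_combination (-318421/170698752000) * h0 + (-4639/5080320) * h1 + (-18225701/24385536000) * h2 + (-1244189/254016000) * h3 + (-11761/63504000) * h4 + (-134107/74088000) * h5 + (-240943/21168000) * h6 + (17119/6350400) * h7 + (760663/190512000) * h8 + (2526221/190512000) * h9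

theorem eigc : ∀ i : Fin 11, ∑ j, (A i j : ℚ) * vc j = 2520 * vc i := by decide +kernel

theorem normc : (∑ i, ((∑ j, Ft i j : ℕ) : ℚ) * vc i ^ 2 : ℚ) = 143127000 / 4881384 := by decide +kernel

/-- the eigenvector for the eigenvalue `504`, degree 51684750 -/
def vd : Fin 11 → ℚ := ![1, -5/1274, -5/1911, 1/7644, 1/5824, 1/624, 1/30576, 1/17472, 5/40768, -1/30576, 1/9408]

theorem ud (x : Fin 11 → ℂ) (h : ∀ i, ∑ j, (A i j : ℂ) * x j = ((504 : ℚ) : ℂ) * x i) (i : Fin 11) :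
    x i = x 0 * ((vd i : ℚ) : ℂ) := by
  have e := rows x 504 (by push_cast at h ⊢; exact h)
  obtain ⟨h0, h1, h2, h3, h4, h5, h6, h7, h8, h9, h10⟩ := e
  push_cast at h0 h1 h2 h3 h4 h5 h6 h7 h8 h9 h10
  unfold vd
  fin_cases i
  · show x 0 = x 0 * (((1 : ℚ)) : ℂ)
    simp
  · show x 1 = x 0 * (((-5/1274 : ℚ)) : ℂ)
    push_cast
    linear_combination (-77057/6975730944) * h0 + (6997/1064672) * h1 + (2363/8517376) * h2 + (-18199/1597008) * h3 + (-22241/1197756) * h4 + (-26311/2794764) * h5 + (-395/199626) * h6 + (-1887/66542) * h7 + (-17093/399252) * h8 + (14067/133084) * h9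
  · show x 2 = x 0 * (((-5/1911 : ℚ)) : ℂ)
    push_cast
    linear_combination (229153/7847697312) * h0 + (-6997/1197756) * h1 + (-2363/9582048) * h2 + (18199/1796634) * h3 + (44482/2694951) * h4 + (52622/6288219) * h5 + (1580/898317) * h6 + (2516/99813) * h7 + (34186/898317) * h8 + (-3126/33271) * h9
  · show x 3 = x 0 * (((1/7644 : ℚ)) : ℂ)
    push_cast
    linear_combination (-122413/188344735488) * h0 + (-12451/229969152) * h1 + (409/9582048) * h2 + (96151/114984576) * h3 + (-149521/258715296) * h4 + (-7309/100611504) * h5 + (1825/7186536) * h6 + (-505/1597008) * h7 + (6463/9582048) * h8 + (-2477/3194016) * h9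
  · show x 4 = x 0 * (((1/5824 : ℚ)) : ℂ)
    push_cast
    linear_combination (-91775/63778111488) * h0 + (-5973/19468288) * h1 + (15273/77873152) * h2 + (-87/76048) * h3 + (7723/5475456) * h4 + (5847/17034752) * h5 + (-465/1216768) * h6 + (729/608384) * h7 + (-41/304192) * h8 + (-711/608384) * h9
  · show x 5 = x 0 * (((1/624 : ℚ)) : ℂ)
    push_cast
    linear_combination (16903/30750160896) * h0 + (-3965/2346624) * h1 + (-359/12515328) * h2 + (229/146664) * h3 + (14845/2639952) * h4 + (1081/256662) * h5 + (-323/146664) * h6 + (187/16296) * h7 + (1229/97776) * h8 + (-1027/32592) * h9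
  · show x 6 = x 0 * (((1/30576 : ℚ)) : ℂ)
    push_cast
    linear_combination (-1622329/3013515767808) * h0 + (94901/919876608) * h1 + (13781/1226502144) * h2 + (-5147/114984576) * h3 + (-14981/129357648) * h4 + (-163571/804892032) * h5 + (33113/57492288) * h6 + (-2027/3194016) * h7 + (-8333/9582048) * h8 + (949/798504) * h9
  · show x 7 = x 0 * (((1/17472 : ℚ)) : ℂ)
    push_cast
    linear_combination (239413/191334334464) * h0 + (-26557/58404864) * h1 + (775/700858368) * h2 + (19969/65705472) * h3 + (239/342216) * h4 + (351643/459938304) * h5 + (-15733/32852736) * h6 + (8213/5475456) * h7 + (75185/16426368) * h8 + (-6299/912576) * h9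
  · show x 8 = x 0 * (((5/40768 : ℚ)) : ℂ)
    push_cast
    linear_combination (-2097455/4018021023744) * h0 + (-13661/1226502144) * h1 + (9617/545112064) * h2 + (1937/12776064) * h3 + (33919/344953728) * h4 + (10709/357729792) * h5 + (-5651/25552128) * h6 + (4425/4258688) * h7 + (-1931/2129344) * h8 + (-795/4258688) * h9
  · show x 9 = x 0 * (((-1/30576 : ℚ)) : ℂ)
    push_cast
    linear_combination (69457/1004505255936) * h0 + (2585/153312768) * h1 + (-809/408834048) * h2 + (-19795/459938304) * h3 + (-20813/344953728) * h4 + (-24505/804892032) * h5 + (-2075/57492288) * h6 + (-219/2129344) * h7 + (-13985/114984576) * h8 + (14935/38328192) * h9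
  · show x 10 = x 0 * (((1/9408 : ℚ)) : ℂ)
    push_cast
    linear_combination (43825/927235620864) * h0 + (166843/3679506432) * h1 + (-816971/14718025728) * h2 + (76211/459938304) * h3 + (108725/517430592) * h4 + (10019/3219568128) * h5 + (119011/229969152) * h6 + (-75389/114984576) * h7 + (82735/114984576) * h8 + (-9007/9582048) * h9

theorem eigd : ∀ i : Fin 11, ∑ j, (A i j : ℚ) * vd j = 504 * vd i := by decide +kernel

theorem normd : (∑ i, ((∑ j, Ft i j : ℕ) : ℚ) * vd i ^ 2 : ℚ) = 143127000 / 51684750 := by decide +kernel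

end Cfsg.Agent.H399.Two.ThEig
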